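import Mathlib
import Cfsg.Agent.Lib.Helper31.CTI.Defs

/-!
# CTI-[C-SETUP] in `_of` form (helper6, hedge): the configuration `CData M N`

`exists_cdata_of hnn hF hodd hblocks hnofrob : ∃ M N, CData M N` where
* `hodd : Odd (Nat.card G) → Group.IsSolvable G` (the Odd Order Theorem `S0205` at `G`),
* `hblocks` is the sheet statement of [BLOCKS] (`exists_niceBlock hG`) at `p = 2`,
* `hnofrob` is the sheet statement of [NOFROB] (`exists_normal_nilpotent_of_self_normalizing`).
-/

set_option autoImplicit false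

namespace Cfsg.Agent.Lib.Helper6.CTI

open Cfsg Cfsg.Agent.Lib.Helper31.CTI

variable {G : Type*} [Group G]

/-- an abelian subgroup is nilpotent -/
theorem isNilpotent_of_comm (K : Subgroup G) (hK : ∀ a ∈ K, ∀ b ∈ K, a * b = b * a) :
    Group.IsNilpotent K := by
  let inst : CommGroup K :=
    { (inferInstance : Group K) with
      mul_comm := fun a b => Subtype.ext (hK a.1 a.2 b.1 b.2) }
  exact @CommGroup.isNilpotent K inst

/-- a nontrivial solvable group has a nontrivial abelian normal subgroup -/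
theorem exists_abelian_normal_of_solvable [hs : Group.IsSolvable G] [Nontrivial G] :
    ∃ K : Subgroup G, K.Normal ∧ (∀ a ∈ K, ∀ b ∈ K, a * b = b * a) ∧ K ≠ ⊥ := by
  classical
  obtain ⟨n, hn⟩ := hs.solvable
  have hex : ∃ n, derivedSeries G n = ⊥ := ⟨n, hn⟩
  have hmin : ∀ m, m < Nat.find hex → ¬ derivedSeries G m = ⊥ := fun m hm => Nat.find_min hex hm
  have hspec := Nat.find_spec hex
  set k := Nat.find hex with hk
  have hk0 : k ≠ 0 := by
    intro e
    rw [e, derivedSeries_zero] at hspec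
    exact top_ne_bot hspec
  obtain ⟨j, hj⟩ := Nat.exists_eq_succ_of_ne_zero hk0
  refine ⟨derivedSeries G j, inferInstance, ?_, ?_⟩
  · intro a ha b hb
    have hcomm := Subgroup.commutator_mem_commutator ha hb
    rw [← derivedSeries_succ, ← Nat.succ_eq_add_one, ← hj, hspec, Subgroup.mem_bot,
      commutatorElement_eq_one_iff_mul_comm] at hcomm
    exact hcomm
  · intro e
    exact hmin j (by rw [hj]; exact Nat.lt_succ_self j) e

/-- [C-SETUP] from the Odd Order Theorem at `G`, [BLOCKS] at `p = 2` and [NOFROB]. -/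
theorem exists_cdata_of [Finite G] (hnn : ¬ Group.IsNilpotent G)
    (hF : ∀ K : Subgroup G, K.Normal → Group.IsNilpotent K → K = ⊥)
    (hodd : Odd (Nat.card G) → Group.IsSolvable G)
    (hblocks : ∀ (P : Sylow 2 G), (P : Subgroup G) ≠ ⊥ →
      ∃ M : Subgroup G, IsNiceBlock M ∧ (P : Subgroup G) ≤ M)
    (hnofrob : ∀ M : Subgroup G, IsNiceBlock M → Subgroup.normalizer (M : Set G) = M → M ≠ ⊤ →
      ∃ K : Subgroup G, K.Normal ∧ Group.IsNilpotent K ∧ K ≠ ⊥) :
    ∃ M N : Subgroup G, CData M N := by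
  classical
  -- `G` is nontrivial
  have hnt : Nontrivial G := by
    by_contra hnot
    rw [not_nontrivial_iff_subsingleton] at hnot
    exact hnn inferInstance
  have hnoab : ∀ K : Subgroup G, K.Normal → (∀ a ∈ K, ∀ b ∈ K, a * b = b * a) → K = ⊥ :=
    fun K hKn hK => hF K hKn (isNilpotent_of_comm K hK)
  -- `|G|` is even
  have heven : Even (Nat.card G) := by
    by_contra hne
    rw [Nat.not_even_iff_odd] at hne
    have hs : Group.IsSolvable G := hodd hne
    obtain ⟨K, hKn, hKab, hK1⟩ := exists_abelian_normal_of_solvable (G := G)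
    exact hK1 (hnoab K hKn hKab)
  -- a Sylow 2-subgroup
  have : Fact (Nat.Prime 2) := ⟨Nat.prime_two⟩
  obtain ⟨P⟩ : Nonempty (Sylow 2 G) := inferInstance
  have h2P : 2 ∣ Nat.card (P : Subgroup G) := by
    have hdvd : 2 ∣ Nat.card G := heven.two_dvd
    exact P.dvd_card_of_dvd_card hdvd
  have hP : (P : Subgroup G) ≠ ⊥ := by
    intro e
    rw [e, Subgroup.card_bot] at h2P
    exact absurd h2P (by norm_num)
  obtain ⟨M, hM, hPM⟩ := hblocks P hP
  have hMnorm : ¬ M.Normal := by
    intro hn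
    exact hM.ne_bot (hF M hn hM.nil)
  have hMtop : M ≠ ⊤ := by
    intro e
    apply hnn
    have hnil := hM.nil
    rw [e] at hnil
    exact (Group.isNilpotent_congr (Subgroup.topEquiv (G := G))).mp hnil
  refine ⟨M, Subgroup.normalizer (M : Set G), hM, rfl, ?_, ?_, ?_, hnoab⟩
  · exact (dvd_trans h2P (Subgroup.card_dvd_of_le hPM)) |> even_iff_two_dvd.mpr
  · intro e
    obtain ⟨K, hKn, hKnil, hK1⟩ := hnofrob M hM e.symm hMtop
    exact hK1 (hF K hKn hKnil)
  · intro e
    exact hMnorm (Subgroup.normalizer_eq_top_iff.mp e)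

end Cfsg.Agent.Lib.Helper6.CTI
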