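import Mathlib
import Cfsg.Agent.Lib.Helper31.CTI.Defs

/-!
# CTI-[C-ZASS] in `_of` form (helper6, hedge): the simple case is a Zassenhaus group

`cdata_zassenhaus_of h h3 htr : IsZassenhausGroup G (G ⧸ N)` where `h3` is the sheet statement of [C-THREE]
(`cdata_fix_three h`) and `htr` the sheet statement of [C-TRANS] (`cdata_M_regular h`).
So the exact [C-ZASS] is `cdata_zassenhaus_of h (cdata_fix_three h) (cdata_M_regular h)`.
-/

set_option autoImplicit false

namespace Cfsg.Agent.Lib.Helper6.CTI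

open Cfsg Cfsg.Agent.Lib.Helper31.CTI

variable {G : Type*} [Group G] {M N : Subgroup G}

theorem smul_one_coset_eq_iff (g : G) : g • ((1 : G) : G ⧸ N) = ((1 : G) : G ⧸ N) ↔ g ∈ N := by
  rw [MulAction.Quotient.smul_coe, QuotientGroup.eq, smul_eq_mul, mul_one]
  constructor
  · intro hg
    have := N.inv_mem hg
    simpa using this
  · intro hg
    simpa using N.inv_mem hg

/-- [C-ZASS] from [C-THREE] and [C-TRANS]. -/
theorem cdata_zassenhaus_of [Finite G] (h : CData M N)
    (h3 : ∀ (g : G) (a b c : G ⧸ N), a ≠ b → b ≠ c → a ≠ c → g • a = a → g • b = b → g • c = c → g = 1)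
    (htr : ∀ x y : G ⧸ N, x ≠ ((1 : G) : G ⧸ N) → y ≠ ((1 : G) : G ⧸ N) → ∃! m : M, (m : G) • x = y) :
    Cfsg.IsZassenhausGroup G (G ⧸ N) := by
  classical
  have hMN : M ≤ N := by rw [h.hN]; exact Subgroup.le_normalizer
  set α : G ⧸ N := ((1 : G) : G ⧸ N) with hα
  have hfix : ∀ g : G, g • α = α ↔ g ∈ N := fun g => smul_one_coset_eq_iff g
  -- a second point
  obtain ⟨g0, hg0⟩ : ∃ g0 : G, g0 ∉ N := by
    by_contra hall
    push Not at hall
    exact h.ne_top (eq_top_iff.mpr fun g _ => hall g)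
  set β : G ⧸ N := g0 • α with hβ
  have hβα : β ≠ α := fun e => hg0 ((hfix g0).mp e)
  -- a nonidentity element of `M`
  obtain ⟨m0, hm0M, hm01⟩ : ∃ m0 ∈ M, m0 ≠ 1 := by
    by_contra hall
    push Not at hall
    exact h.nice.ne_bot (eq_bot_iff.mpr fun m hm => by rw [Subgroup.mem_bot]; exact hall m hm)
  -- elements of `M` move the points other than `α`
  have hmove : ∀ m ∈ M, m ≠ 1 → ∀ x : G ⧸ N, x ≠ α → m • x ≠ x := by
    intro m hm hm1 x hx e
    obtain ⟨m', _, huniq⟩ := htr x x hx hx
    have e1 : (⟨m, hm⟩ : M) = m' := huniq ⟨m, hm⟩ e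
    have e2 : (1 : M) = m' := huniq 1 (by simp)
    have : (⟨m, hm⟩ : M) = 1 := by rw [e1, e2]
    exact hm1 (congrArg Subtype.val this)
  have hMα : ∀ m ∈ M, m • α = α := fun m hm => (hfix m).mpr (hMN hm)
  have hMne : ∀ m ∈ M, ∀ x : G ⧸ N, x ≠ α → m • x ≠ α := by
    intro m hm x hx e
    apply hx
    have : m⁻¹ • (m • x) = m⁻¹ • α := by rw [e]
    rw [inv_smul_smul] at this
    rw [this]
    exact hMα m⁻¹ (M.inv_mem hm)
  set γ : G ⧸ N := m0 • β with hγ
  have hγβ : γ ≠ β := hmove m0 hm0M hm01 β hβα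
  have hγα : γ ≠ α := hMne m0 hm0M β hβα
  refine ⟨⟨?_⟩, ?_, h3, ?_, ?_⟩
  · -- faithful
    intro g1 g2 hall
    have hg : ∀ x : G ⧸ N, (g2⁻¹ * g1) • x = x := by
      intro x
      rw [mul_smul, hall x, inv_smul_smul]
    have := h3 (g2⁻¹ * g1) α β γ hβα.symm hγβ.symm hγα.symm (hg α) (hg β) (hg γ)
    exact (inv_mul_eq_one.mp this).symm
  · -- doubly transitive
    rw [MulAction.is_two_pretransitive_iff]
    intro a b c d hab hcd
    obtain ⟨ga, rfl⟩ := QuotientGroup.mk_surjective a
    obtain ⟨gc, rfl⟩ := QuotientGroup.mk_surjective c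
    have ea : ga⁻¹ • ((ga : G) : G ⧸ N) = α := by
      rw [MulAction.Quotient.smul_coe, smul_eq_mul, inv_mul_cancel]
    have ec : gc⁻¹ • ((gc : G) : G ⧸ N) = α := by
      rw [MulAction.Quotient.smul_coe, smul_eq_mul, inv_mul_cancel]
    have hb' : ga⁻¹ • b ≠ α := by
      intro e
      apply hab
      rw [← ea] at e
      exact (smul_left_cancel _ e).symm
    have hd' : gc⁻¹ • d ≠ α := by
      intro e
      apply hcd
      rw [← ec] at e
      exact (smul_left_cancel _ e).symm
    obtain ⟨m, hm, _⟩ := htr _ _ hb' hd'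
    refine ⟨gc * (m : G) * ga⁻¹, ?_, ?_⟩
    · rw [mul_smul, mul_smul, ea, hMα m.1 m.2, ← ec, smul_inv_smul]
    · rw [mul_smul, mul_smul, hm, smul_inv_smul]
  · -- a nonidentity element fixing two points
    obtain ⟨n, hnN, hnM⟩ : ∃ n ∈ N, n ∉ M := by
      by_contra hall
      push Not at hall
      exact h.lt (le_antisymm hMN fun n hn => hall n hn)
    have hnβ : n • β ≠ α := by
      intro e
      apply hβα
      have : n⁻¹ • (n • β) = n⁻¹ • α := by rw [e]
      rw [inv_smul_smul] at this
      rw [this]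
      exact (hfix n⁻¹).mpr (N.inv_mem hnN)
    obtain ⟨m, hm, _⟩ := htr β (n • β) hβα hnβ
    refine ⟨(m : G)⁻¹ * n, ?_, α, β, hβα.symm, ?_, ?_⟩
    · intro e
      apply hnM
      have : n = (m : G) := by
        have := inv_mul_eq_one.mp e
        exact this.symm
      rw [this]
      exact m.2
    · exact (hfix _).mpr (N.mul_mem (N.inv_mem (hMN m.2)) hnN)
    · rw [mul_smul, ← hm, inv_smul_smul]
  · -- no regular normal subgroup
    intro K hKn hKtr
    by_contra hall
    push Not at hall
    -- an involution of `M`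
    obtain ⟨t, ht⟩ := exists_prime_orderOf_dvd_card' (G := M) 2 h.even.two_dvd
    have ht1 : (t : G) ≠ 1 := by
      intro e
      have : t = 1 := Subtype.ext e
      rw [this, orderOf_one] at ht
      exact absurd ht (by norm_num)
    have ht2 : (t : G) * (t : G) = 1 := by
      have := pow_orderOf_eq_one t
      rw [ht, pow_two] at this
      exact congrArg Subtype.val this
    have htinv : (t : G)⁻¹ = (t : G) := inv_eq_of_mul_eq_one_left ht2
    -- conjugation by `t` on `K` is a fixed-point-free involution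
    let φ : K →* K := (MulAut.conjNormal (H := K) (t : G)).toMonoidHom
    have hφ : ∀ k : K, ((φ k : K) : G) = (t : G) * k * (t : G)⁻¹ := fun k => MulAut.conjNormal_apply _ _
    have hfpf : MonoidHom.FixedPointFree φ := by
      intro k hk
      have e1 : (t : G) * k * (t : G)⁻¹ = k := by rw [← hφ k, hk]
      have hcent : (k : G) ∈ Subgroup.centralizer ({(t : G)} : Set G) := by
        rw [Subgroup.mem_centralizer_singleton_iff]
        have : (t : G) * k = k * (t : G) := by
          calc (t : G) * k = (t : G) * k * (t : G)⁻¹ * (t : G) := by group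
            _ = k * (t : G) := by rw [e1]
        exact this.symm
      have hkM : (k : G) ∈ M := h.nice.cc t.1 t.2 ht1 hcent
      have hkstab : k ∈ (⊥ : Subgroup K) := by
        rw [← hall α, MulAction.mem_stabilizer_iff]
        exact (hfix k).mpr (hMN hkM)
      exact (Subgroup.mem_bot.mp hkstab)
    have hinv : Function.Involutive φ := by
      intro k
      apply Subtype.ext
      rw [hφ, hφ, htinv]
      calc (t : G) * ((t : G) * k * (t : G)) * (t : G) = ((t : G) * (t : G)) * k * ((t : G) * (t : G)) := by group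
        _ = k := by rw [ht2, one_mul, mul_one]
    have hcomm : ∀ a ∈ K, ∀ b ∈ K, a * b = b * a := by
      intro a ha b hb
      have := hfpf.commute_all_of_involutive hinv ⟨a, ha⟩ ⟨b, hb⟩
      exact congrArg Subtype.val this.eq
    have hKbot : K = ⊥ := h.noab K hKn hcomm
    obtain ⟨k, hk⟩ := hKtr.exists_smul_eq α β
    have hk1 : (k : G) = 1 := by
      have : (k : G) ∈ (⊥ : Subgroup G) := by
        rw [← hKbot]
        exact k.2
      exact Subgroup.mem_bot.mp this
    apply hβα
    rw [← hk]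
    show (k : G) • α = α
    rw [hk1, one_smul]

end Cfsg.Agent.Lib.Helper6.CTI
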